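import Cfsg.Agent.H18.U6C.Model
import Cfsg.Agent.H38.U6C.Stmts

/-!
In the case with two fixed dimensions the involution is weakly closed in its centraliser: a second
conjugate commuting with it lies in the core of neither, and then the two cores are compared on the
fixed vectors of the involutions that the conjugates induce on each other's modules.
-/

set_option autoImplicit false

namespace H18.U6C

open H38.U6C (V vadd pol6 pol8 refFun refl8 oGroup IsRefVec Fix8)
open Subgroup (centralizer mem_centralizer_singleton_iff)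

theorem vadd_mid (a b c : V) : vadd (vadd a c) (vadd b c) = vadd a b := by
  rw [vadd_assoc, ← vadd_assoc c b c, vadd_comm c b, vadd_assoc b c c, vadd_self, vadd_zero]

theorem low_of_hi_eq : ∀ a b : V, a.val / 64 = b.val / 64 → (vadd a b).val < 64 := by
  decide +kernel

theorem hv_add : vadd (hv 1) (hv 2) = hv 3 := by decide +kernel

variable {G : Type*} [Group G] {z : G} {J : Subgroup G} {m : Bool} {φ : G → V}
  {ρ : ↥(centralizer ({z} : Set G)) →* Equiv.Perm V}

theorem z_conj {g : G} (hg : g ∈ centralizer ({z} : Set G)) : g * z * g⁻¹ = z := by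
  rw [mem_centralizer_singleton_iff.mp hg, mul_inv_cancel_right]

theorem mem_cent_of_conj {g : G} (h : g * z * g⁻¹ = z) : g ∈ centralizer ({z} : Set G) :=
  mem_centralizer_singleton_iff.mpr (mul_inv_eq_iff_eq_mul.mp h)

theorem φ_one (S : Fix8 z J m φ ρ) : φ 1 = 0 := (S.φ_ker 1 (one_mem J)).mpr (Or.inl rfl)

theorem φ_z (S : Fix8 z J m φ ρ) : φ z = 0 := (S.φ_ker z S.z_mem).mpr (Or.inr rfl)

theorem φ_inv (S : Fix8 z J m φ ρ) {a : G} (ha : a ∈ J) : φ a⁻¹ = φ a := by
  have h := S.φ_mul a ha a⁻¹ (inv_mem ha)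
  rw [mul_inv_cancel, φ_one S] at h
  exact (vadd_eq_zero h.symm).symm

theorem φ_eq (S : Fix8 z J m φ ρ) {a b : G} (ha : a ∈ J) (hb : b ∈ J) (h : φ a = φ b) :
    b = a ∨ b = a * z := by
  have hm := S.φ_mul a⁻¹ (inv_mem ha) b hb
  rw [φ_inv S ha, h, vadd_self] at hm
  rcases (S.φ_ker _ (mul_mem (inv_mem ha) hb)).mp hm with h1 | h1
  · exact Or.inl (by rw [← mul_inv_cancel_left a b, h1, mul_one])
  · exact Or.inr (by rw [← mul_inv_cancel_left a b, h1])

theorem conj_eq (S : Fix8 z J m φ ρ) {a b : G} (ha : a ∈ J) (hb : b ∈ J) :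
    a * b * a⁻¹ = b * if pol8 m (φ a) (φ b) = true then z else 1 := by
  rw [S.φ_comm a ha b hb]
  split_ifs
  · rw [mul_assoc, mul_assoc, ← mul_assoc a, mem_centralizer_singleton_iff.mp (S.le_cent ha)]
    group
  · group

theorem commute_iff (S : Fix8 z J m φ ρ) {a b : G} (ha : a ∈ J) (hb : b ∈ J) :
    Commute a b ↔ pol8 m (φ a) (φ b) = false := by
  have h := S.φ_comm a ha b hb
  cases hp : pol8 m (φ a) (φ b)
  · rw [hp] at h
    exact ⟨fun _ => rfl, fun _ => by simpa [Commute, SemiconjBy] using h⟩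
  · rw [hp] at h
    refine ⟨fun hc => ?_, fun hc => by simp at hc⟩
    rw [hc.eq] at h
    exact absurd (by simpa using h.symm) S.ne_one

theorem centre (S : Fix8 z J m φ ρ) {a : G} (ha : a ∈ J) (h : ∀ b ∈ J, Commute a b) :
    a = 1 ∨ a = z := by
  refine (S.φ_ker a ha).mp ?_
  by_contra h0
  obtain ⟨k, hk⟩ := pol8_nondeg m (φ a) h0
  obtain ⟨b, hb, he⟩ := S.φ_surj (Fin.ofNat 256 (2 ^ k.val))
  rw [← he, (commute_iff S ha hb).mp (h b hb)] at hk
  exact Bool.noConfusion hk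

theorem ρ_mem (S : Fix8 z J m φ ρ) (g : ↥(centralizer ({z} : Set G))) : ρ g ∈ oGroup := by
  rw [← S.ρ_range]; exact ⟨g, rfl⟩

theorem φ_commutator (S : Fix8 z J m φ ρ) (g : ↥(centralizer ({z} : Set G))) {a : G}
    (ha : a ∈ J) : φ ((g : G) * a * (g : G)⁻¹ * a⁻¹) = vadd (ρ g (φ a)) (φ a) := by
  rw [S.φ_mul _ (S.conj_mem _ g.2 a ha) _ (inv_mem ha), S.ρ_φ g a ha, φ_inv S ha]

/-- The hom induced by an isomorphism on the centralisers. -/
def centHom (e : G ≃* G) (z : G) :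
    ↥(centralizer ({e z} : Set G)) →* ↥(centralizer ({z} : Set G)) :=
  (e.symm.toMonoidHom.comp (centralizer ({e z} : Set G)).subtype).codRestrict _ fun x =>
    mem_centralizer_singleton_iff.mpr (e.injective (by
      simpa using mem_centralizer_singleton_iff.mp x.2))

theorem centHom_bijective (e : G ≃* G) (z : G) : Function.Bijective (centHom e z) := by
  refine ⟨fun x y h => Subtype.ext (e.symm.injective (congrArg Subtype.val h)), fun x => ?_⟩
  refine ⟨⟨e x, mem_centralizer_singleton_iff.mpr ?_⟩, Subtype.ext (e.symm_apply_apply x)⟩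
  rw [← map_mul, ← map_mul, mem_centralizer_singleton_iff.mp x.2]

theorem transport (S : Fix8 z J m φ ρ) (e : G ≃* G) :
    Fix8 (e z) (J.map e.toMonoidHom) m (fun x => φ (e.symm x)) (ρ.comp (centHom e z)) where
  sq := by rw [← map_mul, S.sq, map_one]
  ne_one := fun h => S.ne_one (e.injective (h.trans (map_one e).symm))
  le_cent := by
    rintro _ ⟨a, ha, rfl⟩
    refine mem_centralizer_singleton_iff.mpr ?_
    show e a * e z = e z * e a
    rw [← map_mul, ← map_mul, mem_centralizer_singleton_iff.mp (S.le_cent ha)]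
  z_mem := ⟨z, S.z_mem, rfl⟩
  card_J := by
    rw [← Nat.card_congr (J.equivMapOfInjective e.toMonoidHom e.injective).toEquiv, S.card_J]
  conj_mem := by
    rintro g hg _ ⟨a, ha, rfl⟩
    refine ⟨(centHom e z ⟨g, hg⟩ : G) * a * (centHom e z ⟨g, hg⟩ : G)⁻¹,
      S.conj_mem _ (centHom e z ⟨g, hg⟩).2 a ha, ?_⟩
    simp [centHom]
  φ_mul := by
    rintro _ ⟨a, ha, rfl⟩ _ ⟨b, hb, rfl⟩
    simpa using S.φ_mul a ha b hb
  φ_surj := fun v => by
    obtain ⟨a, ha, rfl⟩ := S.φ_surj v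
    exact ⟨e a, ⟨a, ha, rfl⟩, by simp⟩
  φ_ker := by
    rintro _ ⟨a, ha, rfl⟩
    simp [S.φ_ker a ha]
  φ_sq := by
    rintro _ ⟨a, ha, rfl⟩
    simpa [apply_ite e] using congrArg e (S.φ_sq a ha)
  φ_comm := by
    rintro _ ⟨a, ha, rfl⟩ _ ⟨b, hb, rfl⟩
    simpa [apply_ite e] using congrArg e (S.φ_comm a ha b hb)
  ρ_φ := by
    rintro g _ ⟨a, ha, rfl⟩
    simpa [centHom] using S.ρ_φ (centHom e z g) a ha
  ρ_ker := fun g => by
    rw [MonoidHom.comp_apply, S.ρ_ker]
    refine ⟨fun h => ⟨_, h, e.apply_symm_apply _⟩, ?_⟩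
    rintro ⟨a, ha, hag⟩
    have he : ((centHom e z g : ↥(centralizer ({z} : Set G))) : G) = a := by
      show e.symm (g : G) = a
      rw [← hag]; exact e.symm_apply_apply a
    rw [he]; exact ha
  ρ_range := by
    rw [MonoidHom.range_comp, MonoidHom.range_eq_top.mpr (centHom_bijective e z).2,
      ← MonoidHom.range_eq_map, S.ρ_range]
  card_cent := by
    rw [Nat.card_eq_of_bijective _ (centHom_bijective e z), S.card_cent]

variable {t : G} {Jt : Subgroup G} {φt : G → V}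
  {ρt : ↥(centralizer ({t} : Set G)) →* Equiv.Perm V}

theorem comm_mem_both (S : Fix8 z J m φ ρ) (T : Fix8 t Jt m φt ρt) {a b : G}
    (ha : a ∈ J ⊓ centralizer ({t} : Set G)) (hb : b ∈ Jt ⊓ centralizer ({z} : Set G)) :
    b * a * b⁻¹ * a⁻¹ ∈ J ⊓ Jt := by
  have ha' : a⁻¹ ∈ J := inv_mem ha.1
  refine ⟨mul_mem (S.conj_mem _ hb.2 a ha.1) ha', ?_⟩
  have hb' : b⁻¹ ∈ Jt := inv_mem hb.1
  have := mul_mem hb.1 (T.conj_mem _ ha.2 _ hb')
  rwa [show b * (a * b⁻¹ * a⁻¹) = b * a * b⁻¹ * a⁻¹ by group] at this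

theorem core_comm (S : Fix8 z J m φ ρ) (T : Fix8 t Jt m φt ρt) (hz : z ∉ Jt) {k a : G}
    (hk : k ∈ J ⊓ Jt) (ha : a ∈ J ⊓ centralizer ({t} : Set G)) : Commute k a := by
  have h := conj_eq S ha.1 hk.1
  cases hp : pol8 m (φ a) (φ k)
  · exact ((commute_iff S ha.1 hk.1).mpr hp).symm
  · rw [hp, if_pos rfl] at h
    have h1 := T.conj_mem _ ha.2 k hk.2
    rw [h] at h1
    have hk' : k⁻¹ ∈ Jt := inv_mem hk.2
    exact absurd (by simpa using mul_mem hk' h1) hz

theorem exists_swap (S : Fix8 z J m φ ρ) (htJ : t ∈ J) (ht1 : t ≠ 1) (htz : t ≠ z) :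
    ∃ x ∈ J, t * x * t⁻¹ = x * z ∧ pol8 m (φ t) (φ x) = true := by
  have h0 : φ t ≠ 0 := fun h => by
    rcases (S.φ_ker t htJ).mp h with h | h
    · exact ht1 h
    · exact htz h
  obtain ⟨k, hk⟩ := pol8_nondeg m (φ t) h0
  obtain ⟨x, hx, he⟩ := S.φ_surj (Fin.ofNat 256 (2 ^ k.val))
  rw [← he] at hk
  exact ⟨x, hx, by rw [conj_eq S htJ hx, if_pos hk], hk⟩

theorem swap_dichotomy (S : Fix8 z J m φ ρ) (htJ : t ∈ J) {x j : G} (hx : x ∈ J)
    (hxt : t * x * t⁻¹ = x * z) (hj : j ∈ J) (hn : j ∉ centralizer ({t} : Set G)) :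
    j * x ∈ centralizer ({t} : Set G) := by
  have hjt : t * j * t⁻¹ = j * z := by
    rw [conj_eq S htJ hj, if_pos]
    by_contra hp
    refine hn (mem_centralizer_singleton_iff.mpr ?_)
    exact (((commute_iff S htJ hj).mpr (Bool.eq_false_iff.mpr hp)).eq).symm
  refine mem_centralizer_singleton_iff.mpr ?_
  have h1 : t * (j * x) * t⁻¹ = j * x := by
    calc t * (j * x) * t⁻¹ = t * j * t⁻¹ * (t * x * t⁻¹) := by group
      _ = j * (z * x) * z := by rw [hjt, hxt]; group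
      _ = j * (x * z) * z := by rw [(mem_centralizer_singleton_iff.mp (S.le_cent hx)).symm]
      _ = j * x * (z * z) := by group
      _ = j * x := by rw [S.sq, mul_one]
  exact (mul_inv_eq_iff_eq_mul.mp h1).symm

theorem card_A [Finite G] (S : Fix8 z J m φ ρ) (htJ : t ∈ J) (ht1 : t ≠ 1) (htz : t ≠ z) :
    256 ≤ Nat.card ↥(J ⊓ centralizer ({t} : Set G) : Subgroup G) := by
  classical
  obtain ⟨x, hx, hxt, -⟩ := exists_swap S htJ ht1 htz
  let f : J → ↥(J ⊓ centralizer ({t} : Set G) : Subgroup G) × Bool := fun j =>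
    if h : (j : G) ∈ centralizer ({t} : Set G) then (⟨j, j.2, h⟩, true)
    else (⟨j * x, mul_mem j.2 hx, swap_dichotomy S htJ hx hxt j.2 h⟩, false)
  have hf : Function.Injective f := by
    intro a b h
    simp only [f] at h
    split_ifs at h with ha hb hb <;> simp only [Prod.mk.injEq] at h
    · exact Subtype.ext (congrArg Subtype.val h.1 :)
    · exact Bool.noConfusion h.2
    · exact Bool.noConfusion h.2
    · exact Subtype.ext (mul_right_cancel (congrArg Subtype.val h.1 :))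
  have := Nat.card_le_card_of_injective f hf
  rw [S.card_J, Nat.card_prod] at this
  simp only [Nat.card_eq_fintype_card (α := Bool), Fintype.card_bool] at this
  omega

theorem card_hom_range [Finite G] {H : Subgroup G} {M : Type*} [Group M] (f : H →* M) :
    Nat.card f.ker * Nat.card f.range = Nat.card H := by
  rw [← Subgroup.index_ker]
  exact f.ker.card_mul_index

theorem isTwo_range [Finite G] {H : Subgroup G} (S : Fix8 z J m φ ρ) (hH : H ≤ J)
    (f : H →* Equiv.Perm V) : IsPGroup 2 f.range := by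
  have hJ : IsPGroup 2 J := IsPGroup.of_card S.card_J
  rw [MonoidHom.range_eq_map]
  exact ((hJ.to_le hH).to_subgroup ⊤).map f

theorem step_core_mem [Finite G] (S : Fix8 z J m φ ρ) (T : Fix8 t Jt m φt ρt) (htz : t ≠ z)
    (htJ : t ∈ J) : z ∈ Jt := by
  by_contra hz
  obtain ⟨x, hx, hxt, hp⟩ := exists_swap S htJ T.ne_one htz
  have hK : ∀ k ∈ J ⊓ Jt, k = 1 ∨ k = t := by
    intro k hk
    have hall : ∀ c ∈ J, (∀ a ∈ J ⊓ centralizer ({t} : Set G), Commute c a) → Commute c x →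
        c = 1 ∨ c = z := by
      intro c hc hA hcx
      refine centre S hc fun j hj => ?_
      by_cases h : j ∈ centralizer ({t} : Set G)
      · exact hA j ⟨hj, h⟩
      · have := (hA _ ⟨mul_mem hj hx, swap_dichotomy S htJ hx hxt hj h⟩).mul_right hcx.inv_right
        rwa [mul_inv_cancel_right] at this
    have hkA : ∀ a ∈ J ⊓ centralizer ({t} : Set G), Commute k a := fun a ha =>
      core_comm S T hz hk ha
    cases hkx : pol8 m (φ k) (φ x)
    · rcases hall k hk.1 hkA ((commute_iff S hk.1 hx).mpr hkx) with h | h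
      · exact Or.inl h
      · exact absurd (h ▸ hk.2) hz
    · have hc : Commute (k * t) x := by
        show k * t * x = x * (k * t)
        have h1 : t * x = x * z * t := mul_inv_eq_iff_eq_mul.mp hxt
        have h2 : k * x = x * z * k := by
          refine mul_inv_eq_iff_eq_mul.mp ?_
          rw [conj_eq S hk.1 hx, if_pos hkx]
        have hzk := mem_centralizer_singleton_iff.mp (S.le_cent hk.1)
        calc k * t * x = k * x * (z * t) := by rw [mul_assoc, h1]; group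
          _ = x * z * (k * z) * t := by rw [h2]; group
          _ = x * (z * z) * (k * t) := by rw [hzk]; group
          _ = x * (k * t) := by rw [S.sq, mul_one]
      have hA : ∀ a ∈ J ⊓ centralizer ({t} : Set G), Commute (k * t) a := fun a ha =>
        (hkA a ha).mul_left (mem_centralizer_singleton_iff.mp ha.2).symm
      rcases hall _ (mul_mem hk.1 htJ) hA hc with h | h
      · exact Or.inr (by rw [← mul_one k, ← T.sq, ← mul_assoc, h, one_mul])
      · exact absurd (h ▸ mul_mem hk.2 T.z_mem) hz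
  let f : ↥(J ⊓ centralizer ({t} : Set G) : Subgroup G) →* Equiv.Perm V :=
    ρt.comp (Subgroup.inclusion inf_le_right)
  have hker : ∀ a : f.ker, ((a : ↥(J ⊓ centralizer ({t} : Set G) : Subgroup G)) : G) = 1 ∨
      ((a : ↥(J ⊓ centralizer ({t} : Set G) : Subgroup G)) : G) = t := fun a =>
    hK _ ⟨a.1.2.1, (T.ρ_ker _).mp a.2⟩
  have hker2 : Nat.card f.ker ≤ 2 := by
    classical
    refine le_trans (Nat.card_le_card_of_injective
      (fun a : f.ker => decide (((a : ↥(J ⊓ centralizer ({t} : Set G) : Subgroup G)) : G) = 1))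
      ?_) (le_of_eq (by simp))
    intro a b h
    simp only [decide_eq_decide] at h
    apply Subtype.ext; apply Subtype.ext
    rcases hker a with ha | ha <;> rcases hker b with hb | hb <;>
      simp_all [T.ne_one]
  have hle : f.range ≤ oGroup := by
    rintro _ ⟨a, rfl⟩; exact ρ_mem T _
  obtain ⟨k, hk⟩ := IsPGroup.iff_card.mp (isTwo_range S inf_le_left f)
  have hdvd := Subgroup.card_dvd_of_le hle
  rw [card_oGroup S, hk] at hdvd
  have hcard := card_hom_range f
  rw [hk] at hcard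
  have h256 := card_A S htJ T.ne_one htz
  have h7 : 7 ≤ k := by
    by_contra hlt
    have : (2 : ℕ) ^ k ≤ 2 ^ 6 := Nat.pow_le_pow_right (by norm_num) (by omega)
    have := Nat.mul_le_mul hker2 this
    omega
  exact absurd ((pow_dvd_pow 2 h7).trans hdvd) (by norm_num)

theorem step_both_false [Finite G] (S : Fix8 z J m φ ρ) (T : Fix8 t Jt m φt ρt) (htz : t ≠ z)
    (htJ : t ∈ J) (hzt : z ∈ Jt) : False := by
  classical
  have : Fintype G := Fintype.ofFinite G
  let f : ↥(Jt ⊓ centralizer ({z} : Set G) : Subgroup G) →* Equiv.Perm V :=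
    ρ.comp (Subgroup.inclusion inf_le_right)
  have hle : f.range ≤ oGroup := by
    rintro _ ⟨a, rfl⟩; exact ρ_mem S _
  have htz' : ∀ c : ↥(centralizer ({z} : Set G)), (c : G) = 1 ∨ (c : G) = t → ρ c = 1 := by
    rintro c (h | h)
    · exact (S.ρ_ker c).mpr (h ▸ one_mem J)
    · exact (S.ρ_ker c).mpr (h ▸ htJ)
  have hN : Nat.card f.range ≤ 16 := by
    refine elementary_le S hle ?_ ?_
    · rintro _ ⟨b, rfl⟩
      rw [← map_mul]
      refine htz' _ ?_
      show (b : G) * b = 1 ∨ (b : G) * b = t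
      rw [T.φ_sq _ b.2.1]
      split_ifs
      · exact Or.inr rfl
      · exact Or.inl rfl
    · rintro _ ⟨b, rfl⟩ _ ⟨c, rfl⟩
      rw [← commutatorElement_eq_one_iff_mul_comm, ← map_commutatorElement]
      refine htz' _ ?_
      show (b : G) * c * (b : G)⁻¹ * (c : G)⁻¹ = 1 ∨ (b : G) * c * (b : G)⁻¹ * (c : G)⁻¹ = t
      rw [conj_eq T b.2.1 c.2.1]
      split_ifs
      · right
        rw [mem_centralizer_singleton_iff.mp (T.le_cent c.2.1), mul_inv_cancel_right]
      · left; rw [mul_one, mul_inv_cancel]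
  have hB := card_A T hzt S.ne_one htz.symm
  have hprod := card_hom_range f
  have hker : 16 ≤ Nat.card f.ker := by
    by_contra hlt
    have := Nat.mul_le_mul (Nat.le_of_lt_succ (not_le.mp hlt)) hN
    omega
  let K : Finset G := Finset.univ.filter fun g => g ∈ J ⊓ Jt
  have hK16 : 16 ≤ K.card := by
    refine le_trans hker ?_
    rw [Nat.card_eq_fintype_card]
    refine Finset.card_le_card_of_injOn
      (fun a : f.ker => ((a : ↥(Jt ⊓ centralizer ({z} : Set G) : Subgroup G)) : G))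
      (fun a _ => ?_) (fun a _ b _ h => Subtype.ext (Subtype.ext h))
    simp only [K, Finset.coe_filter, Finset.mem_univ, true_and, Set.mem_ofPred_eq]
    exact ⟨(S.ρ_ker _).mp a.2, a.1.2.1⟩
  have hW : 8 ≤ (K.image φ).card := by
    have h : K.card ≤ 2 * (K.image φ).card := by
      refine Finset.card_le_mul_card_image K 2 fun v hv => ?_
      obtain ⟨a, ha, rfl⟩ := Finset.mem_image.mp hv
      refine le_trans (Finset.card_le_card (t := ({a, a * z} : Finset G)) fun b hb => ?_)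
        Finset.card_le_two
      rw [Finset.mem_filter] at hb
      simp only [K, Finset.mem_filter, Finset.mem_univ, true_and] at hb ha
      rcases φ_eq S ha.1 hb.1.1 hb.2.symm with h | h <;> simp [h]
    omega
  have hab : ∀ k ∈ J ⊓ Jt, ∀ l ∈ J ⊓ Jt, pol8 m (φ k) (φ l) = false := by
    intro k hk l hl
    by_contra hp
    have hp' : pol8 m (φ k) (φ l) = true := by simpa using hp
    have h1 := conj_eq S hk.1 hl.1
    rw [if_pos hp', conj_eq T hk.2 hl.2, mul_right_inj] at h1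
    split_ifs at h1
    · exact htz h1
    · exact S.ne_one h1.symm
  obtain ⟨x, hx, hxt, -⟩ := exists_swap S htJ T.ne_one htz
  have hinv : ∀ h ∈ oGroup, h (φ t) = φ t → ∀ k ∈ J ⊓ Jt, ∃ l ∈ J ⊓ Jt, φ l = h (φ k) := by
    intro h hh hfix k hk
    rw [← S.ρ_range] at hh
    obtain ⟨g, hg⟩ := hh
    obtain ⟨g', hg', hρ⟩ : ∃ g' : ↥(centralizer ({z} : Set G)),
        (g' : G) ∈ centralizer ({t} : Set G) ∧ ρ g' = h := by
      have he : φ t = φ ((g : G) * t * (g : G)⁻¹) := by rw [S.ρ_φ g t htJ, hg, hfix]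
      rcases φ_eq S htJ (S.conj_mem _ g.2 t htJ) he with h1 | h1
      · exact ⟨g, mem_cent_of_conj h1, hg⟩
      · refine ⟨⟨x, S.le_cent hx⟩ * g, mem_cent_of_conj ?_, ?_⟩
        · show x * (g : G) * t * (x * (g : G))⁻¹ = t
          have hxt' : x * t * x⁻¹ = t * z := by
            have h2 : t * x = x * z * t := mul_inv_eq_iff_eq_mul.mp hxt
            have hzt' := mem_centralizer_singleton_iff.mp (S.le_cent htJ)
            calc x * t * x⁻¹ = x * (z * z) * t * x⁻¹ := by rw [S.sq, mul_one]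
              _ = x * z * (z * t) * x⁻¹ := by group
              _ = x * z * t * z * x⁻¹ := by rw [← hzt']; group
              _ = t * (x * z) * x⁻¹ := by rw [← h2]; group
              _ = t * (z * x) * x⁻¹ := by rw [mem_centralizer_singleton_iff.mp (S.le_cent hx)]
              _ = t * z := by group
          calc x * (g : G) * t * (x * (g : G))⁻¹ = x * ((g : G) * t * (g : G)⁻¹) * x⁻¹ := by group
            _ = x * t * x⁻¹ * (x * z * x⁻¹) := by rw [h1]; group
            _ = t * (z * z) := by rw [hxt', z_conj (S.le_cent hx)]; group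
            _ = t := by rw [S.sq, mul_one]
        · rw [map_mul, (S.ρ_ker ⟨x, S.le_cent hx⟩).mpr hx, one_mul, hg]
    exact ⟨(g' : G) * k * (g' : G)⁻¹,
      ⟨S.conj_mem _ g'.2 k hk.1, T.conj_mem _ hg' k hk.2⟩, by rw [S.ρ_φ g' k hk.1, hρ]⟩
  by_cases hex : ∃ k ∈ J ⊓ Jt, lo (φ k) ≠ 0 ∧ lo (φ k) ≠ lo (φ t)
  · obtain ⟨k, hk, h0, hv⟩ := hex
    rcases stab_spec (lo (φ t)) (lo (φ k)) with h | h | h
    · exact h0 h
    · exact hv h
    · obtain ⟨⟨a, c⟩, -, hp⟩ := List.any_eq_true.mp h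
      simp only [Bool.and_eq_true, decide_eq_true_eq, Bool.not_eq_true'] at hp
      obtain ⟨⟨⟨⟨ha, hc⟩, hav⟩, hcv⟩, hpol⟩ := hp
      have hh : refl8 a * refl8 c ∈ oGroup :=
        Subgroup.subset_closure ⟨a, c, ha, hc, rfl⟩
      have hfix : (refl8 a * refl8 c) (φ t) = φ t := by
        have e1 : refFun c (φ t) = φ t := by
          unfold H38.U6C.refFun; rw [if_neg]; rw [pol6_lo c _ hc, hcv]; simp
        show refFun a (refFun c (φ t)) = φ t
        rw [e1]
        unfold H38.U6C.refFun; rw [if_neg]; rw [pol6_lo a _ ha, hav]; simp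
      obtain ⟨l, hl, he⟩ := hinv _ hh hfix k hk
      have h1 := hab k hk l hl
      have hlow : ((refl8 a * refl8 c) (lv (lo (φ k)))).val < 64 := good_low hh (lo (φ k)).isLt
      rw [he, ← split_spec (φ k), act_add S hh, (good hh).2, ← lv_of_lt hlow, pol8_mix,
        lv_of_lt hlow] at h1
      exact Bool.noConfusion (hpol.symm.trans h1)
  · simp only [not_exists, not_and, not_not] at hex
    let U : Finset V := Finset.univ.filter fun v => lo v = 0 ∨ lo v = lo (φ t)
    have hU : U.card ≤ 8 := by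
      rw [card_lift (fun a : Fin 64 => a = 0 ∨ a = lo (φ t))]
      have : (Finset.univ.filter fun a : Fin 64 => a = 0 ∨ a = lo (φ t)).card ≤ 2 :=
        le_trans (Finset.card_le_card (t := ({0, lo (φ t)} : Finset (Fin 64))) fun a ha => by
          simpa using ha) Finset.card_le_two
      omega
    have hsub : K.image φ ⊆ U := by
      intro v hv
      obtain ⟨k, hk, rfl⟩ := Finset.mem_image.mp hv
      simp only [K, Finset.mem_filter, Finset.mem_univ, true_and] at hk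
      simp only [U, Finset.mem_filter, Finset.mem_univ, true_and]
      by_cases h : lo (φ k) = 0
      · exact Or.inl h
      · exact Or.inr (hex k hk h)
    have heq := Finset.eq_of_subset_of_card_le hsub (le_trans hU hW)
    have hmem : ∀ h : Fin 4, ∃ k ∈ J ⊓ Jt, φ k = hv h := by
      intro h
      have : hv h ∈ K.image φ := by
        rw [heq]
        simp only [U, Finset.mem_filter, Finset.mem_univ, true_and]
        exact Or.inl (Fin.ext (by simp [lo, hv]))
      obtain ⟨k, hk, he⟩ := Finset.mem_image.mp this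
      simp only [K, Finset.mem_filter, Finset.mem_univ, true_and] at hk
      exact ⟨k, hk, he⟩
    obtain ⟨k, hk, he⟩ := hmem 1
    obtain ⟨l, hl, he'⟩ := hmem 2
    have h1 := hab k hk l hl
    rw [he, he', show hv 2 = vadd (hv 2) (lv 0) by decide +kernel,
      pol8_plane m 1 2 0 (by decide) (by decide) (by decide)] at h1
    exact Bool.noConfusion h1

theorem A_fixed (S : Fix8 z J m φ ρ) (ht : t ∈ centralizer ({z} : Set G)) {a : G}
    (ha : a ∈ J ⊓ centralizer ({t} : Set G)) : ρ ⟨t, ht⟩ (φ a) = φ a := by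
  rw [← S.ρ_φ ⟨t, ht⟩ a ha.1]
  show φ (t * a * t⁻¹) = φ a
  rw [← mem_centralizer_singleton_iff.mp ha.2, mul_inv_cancel_right]

theorem fixed_lift (S : Fix8 z J m φ ρ) (ht : t ∈ centralizer ({z} : Set G)) {v : V}
    (hv : ρ ⟨t, ht⟩ v = v) :
    ∃ p ∈ J, φ p = v ∧ (p ∈ centralizer ({t} : Set G) ∨ t * p * t⁻¹ = p * z) := by
  obtain ⟨p, hp, rfl⟩ := S.φ_surj v
  refine ⟨p, hp, rfl, ?_⟩
  have he : φ p = φ (t * p * t⁻¹) := by
    rw [← hv]; exact (S.ρ_φ ⟨t, ht⟩ p hp).symm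
  rcases φ_eq S hp (S.conj_mem _ ht p hp) he with h | h
  · exact Or.inl (mem_centralizer_singleton_iff.mpr (mul_inv_eq_iff_eq_mul.mp h).symm)
  · exact Or.inr h

theorem mul_twisted (S : Fix8 z J m φ ρ) {p q : G} (hq : q ∈ J) (hpt : t * p * t⁻¹ = p * z)
    (hqt : t * q * t⁻¹ = q * z) : p * q ∈ centralizer ({t} : Set G) := by
  refine mem_centralizer_singleton_iff.mpr (mul_inv_eq_iff_eq_mul.mp ?_).symm
  calc t * (p * q) * t⁻¹ = t * p * t⁻¹ * (t * q * t⁻¹) := by group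
    _ = p * (z * q) * z := by rw [hpt, hqt]; group
    _ = p * (q * z) * z := by rw [(mem_centralizer_singleton_iff.mp (S.le_cent hq)).symm]
    _ = p * q * (z * z) := by group
    _ = p * q := by rw [S.sq, mul_one]

theorem fixed_dichotomy (S : Fix8 z J m φ ρ) (ht : t ∈ centralizer ({z} : Set G)) {v w : V}
    (hv : ρ ⟨t, ht⟩ v = v) (hw : ρ ⟨t, ht⟩ w = w)
    (hnv : ∀ a ∈ J ⊓ centralizer ({t} : Set G), φ a ≠ v)
    (hnw : ∀ a ∈ J ⊓ centralizer ({t} : Set G), φ a ≠ w) :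
    ∃ a ∈ J ⊓ centralizer ({t} : Set G), φ a = vadd v w := by
  obtain ⟨p, hp, hpv, hpt⟩ := fixed_lift S ht hv
  obtain ⟨q, hq, hqw, hqt⟩ := fixed_lift S ht hw
  rcases hpt with h | hpt
  · exact absurd hpv (hnv p ⟨hp, h⟩)
  rcases hqt with h | hqt
  · exact absurd hqw (hnw q ⟨hq, h⟩)
  exact ⟨p * q, ⟨mul_mem hp hq, mul_twisted S hq hpt hqt⟩, by rw [S.φ_mul p hp q hq, hpv, hqw]⟩

theorem card_fixed_A [Finite G] (S : Fix8 z J m φ ρ) (ht : t ∈ centralizer ({z} : Set G))
    (htJ : t ∉ J) (ht2 : t * t = 1) :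
    ∃ L : Finset V, 32 ≤ L.card ∧
      ∀ v ∈ L, ∃ a ∈ J ⊓ centralizer ({t} : Set G), φ a = v := by
  classical
  have h1 : ρ ⟨t, ht⟩ ≠ 1 := fun h => htJ ((S.ρ_ker _).mp h)
  have h2 : ρ ⟨t, ht⟩ * ρ ⟨t, ht⟩ = 1 := by
    rw [← map_mul, ← map_one ρ]; exact congrArg ρ (Subtype.ext ht2)
  obtain ⟨h64, -, -⟩ := invol_facts S (ρ_mem S _) h1 h2
  let L : Finset V := Finset.univ.filter fun v => ∃ a ∈ J ⊓ centralizer ({t} : Set G), φ a = v
  refine ⟨L, ?_, fun v hv => (Finset.mem_filter.mp hv).2⟩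
  by_cases hall : ∀ v, ρ ⟨t, ht⟩ v = v → v ∈ L
  · have := Finset.card_le_card (t := L)
      (s := Finset.univ.filter fun v : V => ρ ⟨t, ht⟩ v = v) fun v hv =>
        hall v (Finset.mem_filter.mp hv).2
    omega
  · simp only [not_forall] at hall
    obtain ⟨w, hw, hwL⟩ := hall
    have hnw : ∀ a ∈ J ⊓ centralizer ({t} : Set G), φ a ≠ w := fun a ha he =>
      hwL (Finset.mem_filter.mpr ⟨Finset.mem_univ _, a, ha, he⟩)
    have hsub : (Finset.univ.filter fun v : V => ρ ⟨t, ht⟩ v = v) ⊆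
        L ∪ L.image (fun v => vadd v w) := by
      intro v hv
      rw [Finset.mem_union]
      by_cases hvL : v ∈ L
      · exact Or.inl hvL
      · right
        have hnv : ∀ a ∈ J ⊓ centralizer ({t} : Set G), φ a ≠ v := fun a ha he =>
          hvL (Finset.mem_filter.mpr ⟨Finset.mem_univ _, a, ha, he⟩)
        obtain ⟨a, ha, he⟩ := fixed_dichotomy S ht (Finset.mem_filter.mp hv).2 hw hnv hnw
        refine Finset.mem_image.mpr ⟨vadd v w,
          Finset.mem_filter.mpr ⟨Finset.mem_univ _, a, ha, he⟩, ?_⟩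
        rw [vadd_assoc, vadd_self, vadd_zero]
    have := (Finset.card_le_card hsub).trans (Finset.card_union_le _ _)
    have := Finset.card_image_le (s := L) (f := fun v => vadd v w)
    omega

theorem A_nonabelian [Finite G] (S : Fix8 z J m φ ρ) (ht : t ∈ centralizer ({z} : Set G))
    (htJ : t ∉ J) (ht2 : t * t = 1) :
    ∃ a ∈ J ⊓ centralizer ({t} : Set G), ∃ b ∈ J ⊓ centralizer ({t} : Set G),
      a * b = b * a * z := by
  have h1 : ρ ⟨t, ht⟩ ≠ 1 := fun h => htJ ((S.ρ_ker _).mp h)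
  have h2 : ρ ⟨t, ht⟩ * ρ ⟨t, ht⟩ = 1 := by
    rw [← map_mul, ← map_one ρ]; exact congrArg ρ (Subtype.ext ht2)
  obtain ⟨-, ⟨a, b, hra, hrb, hab⟩, -⟩ := invol_facts S (ρ_mem S _) h1 h2
  suffices h : ∃ v w : V, (∃ c ∈ J ⊓ centralizer ({t} : Set G), φ c = v) ∧
      (∃ c ∈ J ⊓ centralizer ({t} : Set G), φ c = w) ∧ pol8 m v w = true by
    obtain ⟨_, _, ⟨c, hc, rfl⟩, ⟨d, hd, rfl⟩, hp⟩ := h
    refine ⟨c, hc, d, hd, ?_⟩
    rw [S.φ_comm c hc.1 d hd.1, if_pos hp]
  let InL : V → Prop := fun v => ∃ c ∈ J ⊓ centralizer ({t} : Set G), φ c = v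
  have hplane : ∀ h : Fin 4, ρ ⟨t, ht⟩ (hv h) = hv h := (good (ρ_mem S _)).2
  have hadd : ∀ v w, ρ ⟨t, ht⟩ v = v → ρ ⟨t, ht⟩ w = w → ¬ InL v → ¬ InL w →
      InL (vadd v w) := fun v w hv hw hnv hnw =>
    fixed_dichotomy S ht hv hw (fun c hc he => hnv ⟨c, hc, he⟩) (fun c hc he => hnw ⟨c, hc, he⟩)
  obtain ⟨e, he0, hein⟩ : ∃ e : Fin 4, e ≠ 0 ∧ InL (hv e) := by
    by_cases h1' : InL (hv 1)
    · exact ⟨1, by decide, h1'⟩
    by_cases h2' : InL (hv 2)
    · exact ⟨2, by decide, h2'⟩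
    exact ⟨3, by decide, hv_add ▸ hadd _ _ (hplane 1) (hplane 2) h1' h2'⟩
  obtain ⟨e', he0', hne⟩ : ∃ e' : Fin 4, e' ≠ 0 ∧ e ≠ e' := by
    by_cases h : e = 1
    · exact ⟨2, by decide, by rw [h]; decide⟩
    · exact ⟨1, by decide, h⟩
  by_cases hein' : InL (hv e')
  · refine ⟨hv e, hv e', hein, hein', ?_⟩
    rw [show hv e' = vadd (hv e') (lv 0) by rw [show lv 0 = 0 from rfl, vadd_zero]]
    exact pol8_plane m e e' 0 he0 he0' hne
  by_cases hla : InL (lv a)
  · by_cases hlb : InL (lv b)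
    · exact ⟨lv a, lv b, hla, hlb, hab⟩
    · exact ⟨hv e, vadd (hv e') (lv b), hein, hadd _ _ (hplane e') hrb hein' hlb,
        pol8_plane m e e' b he0 he0' hne⟩
  · exact ⟨hv e, vadd (hv e') (lv a), hein, hadd _ _ (hplane e') hra hein' hla,
      pol8_plane m e e' a he0 he0' hne⟩

theorem untwisted [Finite G] (S : Fix8 z J m φ ρ) (T : Fix8 t Jt m φt ρt)
    (ht : t ∈ centralizer ({z} : Set G)) (hzt : z ∈ centralizer ({t} : Set G)) (htJ : t ∉ J)
    (hzJt : z ∉ Jt) (hW : ∀ c ∈ Jt, IsConj t c → c = t) {u : G} {h : Fin 4} (hu : u ∈ J)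
    (huh : φ u = hv h) : u ∈ centralizer ({t} : Set G) := by
  by_contra hn
  have htu : t * u * t⁻¹ = u * z := by
    have he : φ u = φ (t * u * t⁻¹) := by
      rw [show φ (t * u * t⁻¹) = ρ ⟨t, ht⟩ (φ u) from S.ρ_φ ⟨t, ht⟩ u hu, huh,
        (good (ρ_mem S _)).2]
    rcases φ_eq S hu (S.conj_mem _ ht u hu) he with h' | h'
    · exact absurd (mem_centralizer_singleton_iff.mpr (mul_inv_eq_iff_eq_mul.mp h').symm) hn
    · exact h'
  set r := ρ ⟨t, ht⟩ with hr
  have h1 : r ≠ 1 := fun h => htJ ((S.ρ_ker _).mp h)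
  have h2 : r * r = 1 := by
    rw [hr, ← map_mul, ← map_one ρ]; exact congrArg ρ (Subtype.ext T.sq)
  obtain ⟨h64, -, hperp⟩ := invol_facts S (ρ_mem S _) h1 h2
  have hfixall : ∀ b : G, (hb : b ∈ Jt ⊓ centralizer ({z} : Set G)) →
      ∀ v, r v = v → ρ ⟨b, hb.2⟩ v = v := by
    intro b hb v hv'
    obtain ⟨p, hp, rfl, hpt⟩ := fixed_lift S ht hv'
    obtain ⟨a, ha, hap⟩ : ∃ a, a ∈ J ⊓ centralizer ({t} : Set G) ∧ (a = p ∨ a = p * u) := by
      rcases hpt with h' | h'
      · exact ⟨p, ⟨hp, h'⟩, Or.inl rfl⟩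
      · exact ⟨p * u, ⟨mul_mem hp hu, mul_twisted S hu h' htu⟩, Or.inr rfl⟩
    set k := b * a * b⁻¹ * a⁻¹ with hk_def
    have hk : k ∈ J ⊓ Jt := comm_mem_both S T ha hb
    have hka : Commute k a := core_comm S T hzJt hk ha
    have hφk : φ k = vadd (ρ ⟨b, hb.2⟩ (φ p)) (φ p) := by
      rw [hk_def, φ_commutator S ⟨b, hb.2⟩ ha.1]
      rcases hap with rfl | rfl
      · rfl
      · rw [S.φ_mul p hp u hu, act_add S (ρ_mem S _), huh, (good (ρ_mem S _)).2, vadd_mid]
    have hklow : (φ k).val < 64 := by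
      rw [hφk]; exact low_of_hi_eq _ _ ((good (ρ_mem S _)).1 _)
    have hall : ∀ w, w.val < 64 → r w = w → pol8 m (φ k) w = false := by
      intro w _ hw
      obtain ⟨q, hq, rfl, hqt⟩ := fixed_lift S ht hw
      refine (commute_iff S hk.1 hq).mp ?_
      rcases hqt with h' | h'
      · exact core_comm S T hzJt hk ⟨hq, h'⟩
      · have hku : Commute k u := by
          refine (commute_iff S hk.1 hu).mpr ?_
          rw [huh, ← lv_of_lt hklow]
          exact (pol8_lh m h _).1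
        have := (core_comm S T hzJt hk ⟨mul_mem hq hu, mul_twisted S hu h' htu⟩).mul_right
          hku.inv_right
        rwa [mul_inv_cancel_right] at this
    obtain ⟨y, hy⟩ := hperp (φ k) hklow hall
    obtain ⟨y', hy'J, rfl⟩ := S.φ_surj y
    have hti : t⁻¹ = t := inv_eq_of_mul_eq_one_right T.sq
    set j := y' * (t * y'⁻¹ * t⁻¹) with hj_def
    have hcj : t * y'⁻¹ * t⁻¹ ∈ J := S.conj_mem _ ht _ (inv_mem hy'J)
    have hj : j ∈ J := mul_mem hy'J hcj
    have hφj : φ j = φ k := by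
      rw [hj_def, S.φ_mul _ hy'J _ hcj,
        show φ (t * y'⁻¹ * t⁻¹) = r (φ y'⁻¹) from S.ρ_φ ⟨t, ht⟩ _ (inv_mem hy'J),
        φ_inv S hy'J, vadd_comm, hy]
    have hjt : j * t = y' * t * y'⁻¹ := by
      rw [hj_def, hti]
      calc y' * (t * y'⁻¹ * t) * t = y' * t * y'⁻¹ * (t * t) := by group
        _ = y' * t * y'⁻¹ := by rw [T.sq, mul_one]
    have hconj : IsConj t (k * t) := by
      rw [isConj_iff]
      rcases φ_eq S hj hk.1 hφj with h' | h'
      · exact ⟨y', by rw [h', hjt]⟩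
      · refine ⟨y' * u, ?_⟩
        have hut : u * t * u⁻¹ = z * t := by
          have h3 : t * u = u * z * t := mul_inv_eq_iff_eq_mul.mp htu
          have hzu := mem_centralizer_singleton_iff.mp (S.le_cent hu)
          calc u * t * u⁻¹ = u * (z * z) * t * u⁻¹ := by rw [S.sq, mul_one]
            _ = z * u * z * t * u⁻¹ := by rw [← mul_assoc u z z, hzu]
            _ = z * (u * z * t) * u⁻¹ := by group
            _ = z * t := by rw [← h3]; group
        calc y' * u * t * (y' * u)⁻¹ = y' * (u * t * u⁻¹) * y'⁻¹ := by group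
          _ = y' * z * (t * y'⁻¹) := by rw [hut]; group
          _ = z * (y' * t * y'⁻¹) := by
            rw [mem_centralizer_singleton_iff.mp (S.le_cent hy'J)]; group
          _ = z * (j * t) := by rw [hjt]
          _ = j * z * t := by
            rw [mem_centralizer_singleton_iff.mp (S.le_cent hj)]; group
          _ = k * t := by rw [h']
    have hk1 : k * t = t := hW _ (mul_mem hk.2 T.z_mem) hconj
    rw [mul_eq_right] at hk1
    rw [hk1, φ_one S] at hφk
    exact vadd_eq_zero hφk.symm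
  obtain ⟨b, hb, c, hc, hbc⟩ := A_nonabelian T hzt hzJt S.sq
  let f : ↥(Jt ⊓ centralizer ({z} : Set G) : Subgroup G) →* Equiv.Perm V :=
    ρ.comp (Subgroup.inclusion inf_le_right)
  have hle : f.range ≤ oGroup := by
    rintro _ ⟨a, rfl⟩; exact ρ_mem S _
  have hne : f ⟨b, hb⟩ * f ⟨c, hc⟩ ≠ f ⟨c, hc⟩ * f ⟨b, hb⟩ := by
    intro he
    apply htJ
    have hbc' : (⟨b, hb.2⟩ : ↥(centralizer ({z} : Set G))) * ⟨c, hc.2⟩ =
        ⟨c, hc.2⟩ * ⟨b, hb.2⟩ * ⟨t, ht⟩ := Subtype.ext hbc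
    have h3 := congrArg ρ hbc'
    simp only [map_mul] at h3
    rw [show ρ (⟨b, hb.2⟩ : ↥(centralizer ({z} : Set G))) * ρ ⟨c, hc.2⟩ =
      ρ ⟨c, hc.2⟩ * ρ ⟨b, hb.2⟩ from he] at h3
    exact (S.ρ_ker ⟨t, ht⟩).mp (mul_eq_left.mp h3.symm)
  have hlt := common_fix S hle (isTwo_range T inf_le_left f) ⟨_, rfl⟩ ⟨_, rfl⟩ hne
  have := Finset.card_le_card (s := Finset.univ.filter fun v : V => r v = v)
    (t := Finset.univ.filter fun v : V => f ⟨b, hb⟩ v = v ∧ f ⟨c, hc⟩ v = v) fun v hv => by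
      rw [Finset.mem_filter] at hv ⊢
      exact ⟨hv.1, hfixall b hb v hv.2, hfixall c hc v hv.2⟩
  have h64' : (Finset.univ.filter fun v : V => r v = v).card = 64 := by convert h64
  omega

theorem step_outer_false [Finite G] (S : Fix8 z J m φ ρ) (T : Fix8 t Jt m φt ρt)
    (ht : t ∈ centralizer ({z} : Set G)) (hzt : z ∈ centralizer ({t} : Set G)) (htJ : t ∉ J)
    (hzJt : z ∉ Jt) (hW : ∀ c ∈ Jt, IsConj t c → c = t) : False := by
  obtain ⟨a₁, ha₁, he₁⟩ := S.φ_surj (hv 1)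
  obtain ⟨a₂, ha₂, he₂⟩ := S.φ_surj (hv 2)
  have hA₁ : a₁ ∈ J ⊓ centralizer ({t} : Set G) :=
    ⟨ha₁, untwisted S T ht hzt htJ hzJt hW ha₁ he₁⟩
  have hA₂ : a₂ ∈ J ⊓ centralizer ({t} : Set G) :=
    ⟨ha₂, untwisted S T ht hzt htJ hzJt hW ha₂ he₂⟩
  have hz : a₁ * a₂ = a₂ * a₁ * z := by
    rw [S.φ_comm a₁ ha₁ a₂ ha₂, if_pos]
    rw [he₁, he₂, show hv 2 = vadd (hv 2) (lv 0) by decide +kernel]
    exact pol8_plane m 1 2 0 (by decide) (by decide) (by decide)
  have hcom : ∀ (a : G) (e : Fin 4), a ∈ J ⊓ centralizer ({t} : Set G) → φ a = hv e →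
      ∀ b ∈ Jt ⊓ centralizer ({z} : Set G), a * b * a⁻¹ = b := by
    intro a e ha he b hb
    have hk : b * a * b⁻¹ * a⁻¹ ∈ J ⊓ Jt := comm_mem_both S T ha hb
    have hφ : φ (b * a * b⁻¹ * a⁻¹) = 0 := by
      rw [φ_commutator S ⟨b, hb.2⟩ ha.1, he, (good (ρ_mem S _)).2, vadd_self]
    rcases (S.φ_ker _ hk.1).mp hφ with h | h
    · calc a * b * a⁻¹ = (b * a * b⁻¹ * a⁻¹)⁻¹ * b := by group
        _ = b := by rw [h, inv_one, one_mul]
    · exact absurd (h ▸ hk.2) hzJt
  let f : ↥(J ⊓ centralizer ({t} : Set G) : Subgroup G) →* Equiv.Perm V :=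
    ρt.comp (Subgroup.inclusion inf_le_right)
  have hle : f.range ≤ oGroup := by
    rintro _ ⟨a, rfl⟩; exact ρ_mem T _
  have hne : f ⟨a₁, hA₁⟩ * f ⟨a₂, hA₂⟩ ≠ f ⟨a₂, hA₂⟩ * f ⟨a₁, hA₁⟩ := by
    intro he
    apply hzJt
    have hz' : (⟨a₁, hA₁.2⟩ : ↥(centralizer ({t} : Set G))) * ⟨a₂, hA₂.2⟩ =
        ⟨a₂, hA₂.2⟩ * ⟨a₁, hA₁.2⟩ * ⟨z, hzt⟩ := Subtype.ext hz
    have h3 := congrArg ρt hz'
    simp only [map_mul] at h3
    rw [show ρt (⟨a₁, hA₁.2⟩ : ↥(centralizer ({t} : Set G))) * ρt ⟨a₂, hA₂.2⟩ =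
      ρt ⟨a₂, hA₂.2⟩ * ρt ⟨a₁, hA₁.2⟩ from he] at h3
    exact (T.ρ_ker ⟨z, hzt⟩).mp (mul_eq_left.mp h3.symm)
  have hlt := common_fix T hle (isTwo_range S inf_le_left f) ⟨_, rfl⟩ ⟨_, rfl⟩ hne
  obtain ⟨L, hL, hmem⟩ := card_fixed_A T hzt hzJt S.sq
  have hfix : ∀ (a : G) (e : Fin 4) (ha : a ∈ J ⊓ centralizer ({t} : Set G)), φ a = hv e →
      ∀ v ∈ L, ρt ⟨a, ha.2⟩ v = v := by
    intro a e ha he v hv'
    obtain ⟨b, hb, rfl⟩ := hmem v hv'
    rw [← T.ρ_φ ⟨a, ha.2⟩ b hb.1]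
    show φt (a * b * a⁻¹) = φt b
    rw [hcom a e ha he b hb]
  have := Finset.card_le_card (s := L)
    (t := Finset.univ.filter fun v : V => f ⟨a₁, hA₁⟩ v = v ∧ f ⟨a₂, hA₂⟩ v = v) fun v hv' =>
      Finset.mem_filter.mpr
        ⟨Finset.mem_univ _, hfix a₁ 1 hA₁ he₁ v hv', hfix a₂ 2 hA₂ he₂ v hv'⟩
  omega

theorem core_unique [Finite G] (S : Fix8 z J m φ ρ) {c : G} (hc : c ∈ J) (hcc : IsConj z c) :
    c = z := by
  by_contra hne
  obtain ⟨g, rfl⟩ := isConj_iff.mp hcc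
  have T := transport S (MulAut.conj g)
  exact step_both_false S T hne hc (step_core_mem S T hne hc)

universe u

/-- In the case with fixed dimensions the involution is weakly closed in its centraliser. -/
theorem fixed : H38.U6C.FixedStmt.{u} := by
  intro G _ _ z J m φ ρ S a ha hconj
  by_contra hne
  obtain ⟨g, rfl⟩ := isConj_iff.mp hconj
  have T := transport S (MulAut.conj g)
  have hzt : z ∈ centralizer ({MulAut.conj g z} : Set G) :=
    mem_centralizer_singleton_iff.mpr (mem_centralizer_singleton_iff.mp ha).symm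
  refine step_outer_false S T ha hzt (fun h => hne (core_unique S h hconj)) (fun h => ?_)
    fun c hc hcc => core_unique T hc hcc
  exact hne (core_unique T h hconj.symm).symm

end H18.U6C
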