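import Cfsg.Agent.H18.U6C.Cert

/-!
A Sylow 2-subgroup of the group induced on the model with a fixed plane, and the facts about
2-subgroups and involutions of that group that follow from the tables by conjugation.
-/

set_option autoImplicit false
set_option maxRecDepth 100000

namespace H18.U6C

open scoped Pointwise
open H38.U6C (V vadd q6 pol6 pol8 q8 refFun refl8 oGroup IsRefVec Fix8)

/-- The six-dimensional part of a vector. -/
def lo (v : V) : Fin 64 := ⟨v.val % 64, Nat.mod_lt _ (by norm_num)⟩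

/-- The part of a vector in the fixed plane. -/
def hi (v : V) : Fin 4 := ⟨v.val / 64, by omega⟩

theorem split_spec : ∀ v : V, vadd (hv (hi v)) (lv (lo v)) = v := by decide +kernel

theorem refl_hi : ∀ a v : V, (refFun a v).val / 64 = v.val / 64 := by decide +kernel

theorem refl_hv : ∀ (a : V) (h : Fin 4), refFun a (hv h) = hv h := by decide +kernel

theorem pol6_lo : ∀ a v : V, IsRefVec a → pol6 a v = pol6 a (lv (lo v)) := by decide +kernel

theorem pol8_nondeg : ∀ (m : Bool) (v : V), v ≠ 0 →
    ∃ k : Fin 8, pol8 m v (Fin.ofNat 256 (2 ^ k.val)) = true := by decide +kernel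

theorem pol8_lh : ∀ (m : Bool) (h : Fin 4) (w : Fin 64),
    pol8 m (lv w) (hv h) = false ∧ pol8 m (hv h) (lv w) = false := by decide +kernel

theorem pol8_mix : ∀ (m : Bool) (h : Fin 4) (a b : Fin 64),
    pol8 m (vadd (hv h) (lv a)) (vadd (hv h) (lv b)) = pol6 (lv a) (lv b) := by decide +kernel

theorem pol8_low : ∀ (m : Bool) (a b : Fin 64), pol8 m (lv a) (lv b) = pol6 (lv a) (lv b) := by
  decide +kernel

theorem pol8_plane : ∀ (m : Bool) (h k : Fin 4) (a : Fin 64), h ≠ 0 → k ≠ 0 → h ≠ k →
    pol8 m (hv h) (vadd (hv k) (lv a)) = true := by decide +kernel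

theorem vadd_val (a b : V) : (vadd a b).val = a.val ^^^ b.val :=
  Nat.mod_eq_of_lt (Nat.xor_lt_two_pow (n := 8) a.isLt b.isLt)

theorem vadd_assoc (a b c : V) : vadd (vadd a b) c = vadd a (vadd b c) := by
  apply Fin.ext; simp only [vadd_val, Nat.xor_assoc]

theorem vadd_comm (a b : V) : vadd a b = vadd b a := by
  apply Fin.ext; simp only [vadd_val, Nat.xor_comm]

theorem vadd_self (a : V) : vadd a a = 0 := by
  apply Fin.ext; simp [vadd_val]

theorem vadd_zero (a : V) : vadd a 0 = a := by
  apply Fin.ext; simp [vadd_val]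

theorem zero_vadd (a : V) : vadd 0 a = a := by
  apply Fin.ext; simp [vadd_val]

theorem vadd_cancel (a b : V) : vadd a (vadd a b) = b := by
  rw [← vadd_assoc, vadd_self, zero_vadd]

theorem vadd_eq_zero {a b : V} (h : vadd a b = 0) : a = b := by
  have := congrArg (vadd a) h
  rw [vadd_cancel, vadd_zero] at this
  exact this.symm

theorem vadd_right_cancel {a b c : V} (h : vadd a c = vadd b c) : a = b := by
  have := congrArg (fun u => vadd u c) h
  simpa [vadd_assoc, vadd_self, vadd_zero] using this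

theorem lv_of_lt {v : V} (h : v.val < 64) : lv (lo v) = v := by
  apply Fin.ext; simp only [lv, lo]; omega

theorem lo_lv (a : Fin 64) : lo (lv a) = a := by
  apply Fin.ext; simp only [lv, lo]; omega

theorem hv_zero : hv 0 = 0 := rfl

theorem low_lt (i v : ℕ) : low i v < 64 := Nat.mod_lt _ (by norm_num)

theorem app_val (i : Fin 64) (v : V) :
    (app i v).val = v.val / 64 * 64 + low i.val (v.val % 64) := by
  have := low_lt i.val (v.val % 64)
  have := v.isLt
  simp only [app]
  omega

theorem app_comp (i j : Fin 64) (v : V) :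
    (app i (app j v)).val = v.val / 64 * 64 + low i.val (low j.val (v.val % 64)) := by
  have := low_lt j.val (v.val % 64)
  rw [app_val, app_val,
    show (v.val / 64 * 64 + low j.val (v.val % 64)) / 64 = v.val / 64 by omega,
    show (v.val / 64 * 64 + low j.val (v.val % 64)) % 64 = low j.val (v.val % 64) by omega]

theorem app_lv (i : Fin 64) (a : Fin 64) : (app i (lv a)).val = low i.val a.val := by
  rw [app_val, show (lv a).val = a.val from rfl, Nat.div_eq_of_lt a.isLt,
    Nat.mod_eq_of_lt a.isLt, zero_mul, zero_add]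

theorem app_app_lv (i j : Fin 64) (a : Fin 64) :
    (app i (app j (lv a))).val = low i.val (low j.val a.val) := by
  rw [app_comp, show (lv a).val = a.val from rfl, Nat.div_eq_of_lt a.isLt,
    Nat.mod_eq_of_lt a.isLt, zero_mul, zero_add]

/-- The permutation of index `i`. -/
def perm (i : Fin 64) : Equiv.Perm V where
  toFun := app i
  invFun := app (inv64 i)
  left_inv v := by
    apply Fin.ext
    rw [app_comp, show v.val % 64 = (lo v).val from rfl, (low_inv i (lo v)).1]
    simp only [lo]
    omega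
  right_inv v := by
    apply Fin.ext
    rw [app_comp, show v.val % 64 = (lo v).val from rfl, (low_inv i (lo v)).2]
    simp only [lo]
    omega

theorem perm_apply (i : Fin 64) (v : V) : perm i v = app i v := rfl

theorem perm_zero : perm 0 = 1 := by
  apply Equiv.ext; intro v; apply Fin.ext
  show (app 0 v).val = v.val
  rw [app_val, show ((0 : Fin 64).val) = 0 from rfl, show v.val % 64 = (lo v).val from rfl,
    low_zero]
  simp only [lo]; omega

theorem perm_inv (i : Fin 64) : (perm i)⁻¹ = perm (inv64 i) := by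
  apply Equiv.ext; intro v; rfl

theorem pow_lt (k : Fin 6) : 2 ^ k.val < 64 := by
  simpa using Nat.pow_lt_pow_right (a := 2) (by norm_num) k.isLt

theorem perm_injective : Function.Injective perm := by
  intro i j h
  refine low_injective i j fun k => ?_
  have := congrArg (fun p : Equiv.Perm V => (p (lv ⟨2 ^ k.val, pow_lt k⟩)).val) h
  simpa only [perm_apply, app_lv] using this

/-- The generator of index `k`. -/
def gperm (k : Fin 6) : Equiv.Perm V := refl8 (genPair k).1 * refl8 (genPair k).2

theorem gperm_mul (k : Fin 6) (i : Fin 64) : gperm k * perm i = perm (genMul k i) := by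
  apply Equiv.ext; intro v; apply Fin.ext
  show (refFun (genPair k).1 (refFun (genPair k).2 (app i v))).val = (app (genMul k i) v).val
  rw [gen_app, app_comp, app_val, show v.val % 64 = (lo v).val from rfl, gen_mul]

theorem gperm_mem (k : Fin 6) : gperm k ∈ oGroup :=
  Subgroup.subset_closure ⟨_, _, (gen_ref k).1, (gen_ref k).2, rfl⟩

theorem perm_step {P : Fin 64 → Prop} (h0 : P 0) (hs : ∀ k i, P i → P (genMul k i)) :
    ∀ i, P i := by
  suffices h : ∀ n, ∀ i : Fin 64, depth.getD i.val 0 = n → P i from fun i => h _ i rfl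
  intro n
  induction n using Nat.strong_induction_on with
  | _ n ih =>
    intro i hi
    by_cases h : i = 0
    · exact h ▸ h0
    · obtain ⟨hd, he⟩ := par_spec i h
      exact he ▸ hs _ _ (ih _ (hi ▸ hd) _ rfl)

theorem perm_mem (i : Fin 64) : perm i ∈ oGroup := by
  refine perm_step (P := fun i => perm i ∈ oGroup) ?_ (fun k i h => ?_) i
  · rw [perm_zero]; exact one_mem _
  · rw [← gperm_mul]; exact mul_mem (gperm_mem k) h

theorem perm_mul (i j : Fin 64) : ∃ k, perm i * perm j = perm k := by
  refine perm_step (P := fun i => ∃ k, perm i * perm j = perm k) ⟨j, ?_⟩ (fun k i h => ?_) i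
  · rw [perm_zero, one_mul]
  · obtain ⟨l, hl⟩ := h
    exact ⟨genMul k l, by rw [← gperm_mul, mul_assoc, hl, gperm_mul]⟩

/-- The Sylow 2-subgroup given by the tables. -/
def T : Subgroup (Equiv.Perm V) where
  carrier := Set.range perm
  one_mem' := ⟨0, perm_zero⟩
  mul_mem' := by
    rintro _ _ ⟨i, rfl⟩ ⟨j, rfl⟩
    obtain ⟨k, hk⟩ := perm_mul i j
    exact ⟨k, hk.symm⟩
  inv_mem' := by
    rintro _ ⟨i, rfl⟩
    exact ⟨inv64 i, (perm_inv i).symm⟩

theorem T_le : T ≤ oGroup := by
  rintro _ ⟨i, rfl⟩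
  exact perm_mem i

theorem card_T : Nat.card T = 64 := by
  show Nat.card (Set.range perm) = 64
  rw [Nat.card_range_of_injective perm_injective, Nat.card_eq_fintype_card, Fintype.card_fin]

theorem good {h : Equiv.Perm V} (hh : h ∈ oGroup) :
    (∀ v : V, (h v).val / 64 = v.val / 64) ∧ ∀ j : Fin 4, h (hv j) = hv j := by
  induction hh using Subgroup.closure_induction with
  | mem s hs =>
    obtain ⟨a, b, -, -, rfl⟩ := hs
    refine ⟨fun v => (refl_hi a _).trans (refl_hi b v), fun j => ?_⟩
    show refFun a (refFun b (hv j)) = hv j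
    rw [refl_hv, refl_hv]
  | one => exact ⟨fun v => rfl, fun j => rfl⟩
  | mul x y _ _ hx hy =>
    refine ⟨fun v => (hx.1 _).trans (hy.1 v), fun j => ?_⟩
    rw [Equiv.Perm.mul_apply, hy.2, hx.2]
  | inv x _ hx =>
    refine ⟨fun v => ?_, fun j => ?_⟩
    · have := hx.1 (x.symm v)
      rw [Equiv.apply_symm_apply] at this
      exact this.symm
    · have := congrArg x.symm (hx.2 j)
      rw [Equiv.symm_apply_apply] at this
      exact this.symm

theorem good_low {h : Equiv.Perm V} (hh : h ∈ oGroup) {v : V} (hv : v.val < 64) :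
    (h v).val < 64 := by
  have := (good hh).1 v
  omega

variable {G : Type*} [Group G] {z : G} {J : Subgroup G} {m : Bool} {φ : G → V}
  {ρ : ↥(Subgroup.centralizer ({z} : Set G)) →* Equiv.Perm V}

theorem act_add (S : Fix8 z J m φ ρ) {h : Equiv.Perm V} (hh : h ∈ oGroup) (v w : V) :
    h (vadd v w) = vadd (h v) (h w) := by
  rw [← S.ρ_range] at hh
  obtain ⟨g, rfl⟩ := hh
  obtain ⟨a, ha, rfl⟩ := S.φ_surj v
  obtain ⟨b, hb, rfl⟩ := S.φ_surj w
  rw [← S.φ_mul a ha b hb, ← S.ρ_φ g _ (mul_mem ha hb), ← S.ρ_φ g a ha, ← S.ρ_φ g b hb,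
    ← S.φ_mul _ (S.conj_mem _ g.2 a ha) _ (S.conj_mem _ g.2 b hb)]
  congr 1
  group

theorem act_pol (S : Fix8 z J m φ ρ) {h : Equiv.Perm V} (hh : h ∈ oGroup) (v w : V) :
    pol8 m (h v) (h w) = pol8 m v w := by
  rw [← S.ρ_range] at hh
  obtain ⟨g, rfl⟩ := hh
  obtain ⟨a, ha, rfl⟩ := S.φ_surj v
  obtain ⟨b, hb, rfl⟩ := S.φ_surj w
  rw [← S.ρ_φ g a ha, ← S.ρ_φ g b hb]
  have hgz : (g : G) * z * (g : G)⁻¹ = z := by
    rw [(Subgroup.mem_centralizer_singleton_iff.mp g.2), mul_inv_cancel_right]
  have h1 := S.φ_comm _ (S.conj_mem _ g.2 a ha) _ (S.conj_mem _ g.2 b hb)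
  have h2 := congrArg (MulAut.conj (g : G)) (S.φ_comm a ha b hb)
  rw [map_mul, map_mul, map_mul, MulAut.conj_apply, MulAut.conj_apply, h1, mul_right_inj] at h2
  cases h3 : pol8 m (φ a) (φ b) <;>
    cases h4 : pol8 m (φ ((g : G) * a * (g : G)⁻¹)) (φ ((g : G) * b * (g : G)⁻¹)) <;>
    simp [h3, h4, MulAut.conj_apply, hgz, S.ne_one, S.ne_one.symm] at h2 ⊢

theorem card_oGroup [Finite G] (S : Fix8 z J m φ ρ) : Nat.card oGroup = 25920 := by
  have h1 := ρ.ker.card_mul_index
  rw [Subgroup.index_ker, S.ρ_range, S.card_cent] at h1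
  have h2 : ρ.ker = J.subgroupOf (Subgroup.centralizer ({z} : Set G)) := by
    ext g
    exact S.ρ_ker g
  rw [h2, Nat.card_congr (Subgroup.subgroupOfEquivOfLe S.le_cent).toEquiv, S.card_J] at h1
  exact Nat.eq_of_mul_eq_mul_left (by norm_num) h1

theorem exists_conj_T [Finite G] (S : Fix8 z J m φ ρ) {P : Subgroup (Equiv.Perm V)}
    (hP : P ≤ oGroup) (hp : IsPGroup 2 P) : ∃ h ∈ oGroup, ∀ x ∈ P, h * x * h⁻¹ ∈ T := by
  have hP' : IsPGroup 2 (P.subgroupOf oGroup) :=
    hp.comap_of_injective oGroup.subtype (Subgroup.subtype_injective _)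
  obtain ⟨Q, hQ⟩ := hP'.exists_le_sylow
  have hc : Nat.card (T.subgroupOf oGroup) = 2 ^ (Nat.card oGroup).factorization 2 := by
    rw [Nat.card_congr (Subgroup.subgroupOfEquivOfLe T_le).toEquiv, card_T, card_oGroup S,
      show (25920 : ℕ) = 2 ^ 6 * 405 by norm_num,
      Nat.factorization_mul (by norm_num) (by norm_num), Finsupp.add_apply,
      Nat.Prime.factorization_pow Nat.prime_two, Finsupp.single_eq_same,
      Nat.factorization_eq_zero_of_not_dvd (show ¬ 2 ∣ 405 by norm_num)]
    rfl
  obtain ⟨g, hg⟩ := MulAction.exists_smul_eq oGroup Q (Sylow.ofCard (T.subgroupOf oGroup) hc)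
  refine ⟨g, g.2, fun x hx => ?_⟩
  have hxQ : (⟨x, hP hx⟩ : oGroup) ∈ (Q : Subgroup oGroup) := hQ hx
  have h1 := Subgroup.smul_mem_pointwise_smul _ (MulAut.conj g) _ hxQ
  have h2 : (MulAut.conj g • (Q : Subgroup oGroup)) = T.subgroupOf oGroup :=
    congrArg (fun R : Sylow 2 oGroup => (R : Subgroup oGroup)) hg
  rw [h2] at h1
  exact h1

theorem card_lift (p : Fin 64 → Prop) [DecidablePred p] :
    (Finset.univ.filter fun v : V => p (lo v)).card = 4 * (Finset.univ.filter p).card := by
  have h : (Finset.univ.filter fun v : V => p (lo v)).card =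
      ((Finset.univ : Finset (Fin 4)) ×ˢ Finset.univ.filter p).card := by
    refine Finset.card_nbij' (fun v => (hi v, lo v))
      (fun x => ⟨64 * x.1.val + x.2.val, by omega⟩) ?_ ?_ ?_ ?_
    · intro v hv
      simp only [Finset.coe_filter, Finset.mem_univ, true_and, Set.mem_ofPred_eq] at hv
      simp [hv]
    · rintro ⟨a, b⟩ hab
      have he : lo (⟨64 * a.val + b.val, by omega⟩ : V) = b := by
        apply Fin.ext; simp only [lo]; omega
      simp only [Finset.coe_product, Finset.coe_univ, Finset.coe_filter, Set.mem_prod,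
        Set.mem_univ, true_and, Finset.mem_univ, Set.mem_ofPred_eq] at hab
      simp only [Finset.coe_filter, Finset.mem_univ, true_and, Set.mem_ofPred_eq]
      rw [he]; exact hab
    · intro v _
      apply Fin.ext; simp only [hi, lo]; omega
    · rintro ⟨a, b⟩ _
      refine Prod.ext (Fin.ext ?_) (Fin.ext ?_) <;> simp only [hi, lo] <;> omega
  rw [h, Finset.card_product, Finset.card_univ, Fintype.card_fin]

theorem perm_fix_iff (i : Fin 64) (v : V) :
    perm i v = v ↔ low i.val (lo v).val = (lo v).val := by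
  rw [perm_apply, ← Fin.val_inj, app_val]
  have := low_lt i.val (v.val % 64)
  simp only [lo]
  omega

theorem conj_fix (h x : Equiv.Perm V) (v : V) : (h * x * h⁻¹) (h v) = h v ↔ x v = v := by
  simp [Equiv.Perm.mul_apply]

theorem common_fix [Finite G] (S : Fix8 z J m φ ρ) {P : Subgroup (Equiv.Perm V)}
    (hP : P ≤ oGroup) (hp : IsPGroup 2 P) {x y : Equiv.Perm V} (hx : x ∈ P) (hy : y ∈ P)
    (hxy : x * y ≠ y * x) :
    (Finset.univ.filter fun v : V => x v = v ∧ y v = v).card < 32 := by
  obtain ⟨h, -, hT⟩ := exists_conj_T S hP hp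
  obtain ⟨i, hi⟩ := hT x hx
  obtain ⟨j, hj⟩ := hT y hy
  have hle : (Finset.univ.filter fun v : V => x v = v ∧ y v = v).card ≤
      (Finset.univ.filter fun v : V =>
        low i.val (lo v).val = (lo v).val ∧ low j.val (lo v).val = (lo v).val).card := by
    refine Finset.card_le_card_of_injOn (fun v => h v) (fun v hv => ?_) h.injective.injOn
    simp only [Finset.coe_filter, Finset.mem_univ, true_and, Set.mem_ofPred_eq] at hv ⊢
    rw [← perm_fix_iff, ← perm_fix_iff, hi, hj, conj_fix, conj_fix]
    exact hv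
  rw [card_lift (fun a : Fin 64 => low i.val a.val = a.val ∧ low j.val a.val = a.val)] at hle
  rcases comm_spec i j with ⟨-, hc⟩ | ⟨-, -, hlt⟩
  · have he : perm i * perm j = perm j * perm i := by
      apply Equiv.ext; intro v; apply Fin.ext
      show (app i (app j v)).val = (app j (app i v)).val
      rw [app_comp, app_comp, show v.val % 64 = (lo v).val from rfl, hc]
    rw [hi, hj] at he
    refine absurd ?_ hxy
    have he' : h * (x * y) * h⁻¹ = h * (y * x) * h⁻¹ := by
      calc h * (x * y) * h⁻¹ = h * x * h⁻¹ * (h * y * h⁻¹) := by group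
        _ = h * y * h⁻¹ * (h * x * h⁻¹) := he
        _ = h * (y * x) * h⁻¹ := by group
    exact mul_left_cancel (mul_right_cancel he')
  · have he : (Finset.univ.filter fun a : Fin 64 =>
        low i.val a.val = a.val ∧ low j.val a.val = a.val).card =
        count64 (fixTab.getD i.val 0 &&& fixTab.getD j.val 0) := by
      rw [count64]
      congr 1
      refine Finset.filter_congr fun a _ => ?_
      rw [Nat.testBit_land, Bool.and_eq_true, fix_spec, fix_spec]
    omega

theorem low_of_sq {i : Fin 64} (h : perm i * perm i = 1) (v : Fin 64) :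
    low i.val (low i.val v.val) = v.val := by
  have := congrArg (fun q : Equiv.Perm V => (q (lv v)).val) h
  simpa only [Equiv.Perm.mul_apply, perm_apply, app_app_lv, Equiv.Perm.one_apply,
    show (lv v).val = v.val from rfl] using this

theorem low_of_comm {i j : Fin 64} (h : perm i * perm j = perm j * perm i) (v : Fin 64) :
    low i.val (low j.val v.val) = low j.val (low i.val v.val) := by
  have := congrArg (fun q : Equiv.Perm V => (q (lv v)).val) h
  simpa only [Equiv.Perm.mul_apply, perm_apply, app_app_lv] using this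

theorem big_card : (Finset.univ.filter fun i : Fin 64 => i.val ∈ bigTab).card ≤ 8 := by
  decide +kernel

theorem elementary_le [Finite G] (S : Fix8 z J m φ ρ) {P : Subgroup (Equiv.Perm V)}
    (hP : P ≤ oGroup) (hsq : ∀ x ∈ P, x * x = 1) (hcomm : ∀ x ∈ P, ∀ y ∈ P, x * y = y * x) :
    Nat.card P ≤ 16 := by
  have hp : IsPGroup 2 P := fun x => ⟨1, Subtype.ext (by simpa [pow_two] using hsq _ x.2)⟩
  obtain ⟨h, -, hT⟩ := exists_conj_T S hP hp
  choose f hf using fun x : P => hT x x.2
  have finj : Function.Injective f := fun x y he => Subtype.ext (by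
    have := congrArg perm he
    rw [hf, hf] at this
    simpa using this)
  obtain ⟨k, hk⟩ := IsPGroup.iff_card.mp hp
  rw [hk]
  by_contra hgt
  have hk5 : 5 ≤ k := by
    by_contra hk4
    exact hgt (le_trans (Nat.pow_le_pow_right (by norm_num) (by omega : k ≤ 4)) (by norm_num))
  have hcard : 32 ≤ Nat.card P := by
    rw [hk]; exact le_trans (by norm_num) (Nat.pow_le_pow_right (by norm_num) hk5)
  have : Fintype P := Fintype.ofFinite _
  rw [Nat.card_eq_fintype_card, ← Finset.card_univ,
    ← Finset.card_image_of_injective _ finj] at hcard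
  have hbig : Finset.univ.image f ⊆ Finset.univ.filter fun i : Fin 64 => i.val ∈ bigTab := by
    intro i hi
    obtain ⟨x, -, rfl⟩ := Finset.mem_image.mp hi
    rw [Finset.mem_filter]
    refine ⟨Finset.mem_univ _, big_spec _ (low_of_sq ?_) (le_trans hcard ?_)⟩
    · rw [hf]
      calc h * (x : Equiv.Perm V) * h⁻¹ * (h * (x : Equiv.Perm V) * h⁻¹)
          = h * ((x : Equiv.Perm V) * x) * h⁻¹ := by group
        _ = 1 := by rw [hsq x x.2, mul_one, mul_inv_cancel]
    · refine Finset.card_le_card fun j hj => ?_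
      obtain ⟨y, -, rfl⟩ := Finset.mem_image.mp hj
      rw [Finset.mem_filter]
      refine ⟨Finset.mem_univ _, ?_⟩
      rcases comm_spec (f x) (f y) with ⟨h1, -⟩ | ⟨-, ⟨l, hl⟩, -⟩
      · exact h1
      · refine absurd (low_of_comm ?_ ⟨2 ^ l.val, pow_lt l⟩) hl
        rw [hf, hf]
        calc h * (x : Equiv.Perm V) * h⁻¹ * (h * (y : Equiv.Perm V) * h⁻¹)
            = h * ((x : Equiv.Perm V) * y) * h⁻¹ := by group
          _ = h * ((y : Equiv.Perm V) * x) * h⁻¹ := by rw [hcomm x x.2 y y.2]
          _ = h * (y : Equiv.Perm V) * h⁻¹ * (h * (x : Equiv.Perm V) * h⁻¹) := by group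
  have := Finset.card_le_card hbig
  have := big_card
  omega

theorem invol_facts [Finite G] (S : Fix8 z J m φ ρ) {r : Equiv.Perm V} (hr : r ∈ oGroup)
    (h1 : r ≠ 1) (h2 : r * r = 1) :
    (Finset.univ.filter fun v : V => r v = v).card = 64 ∧
    (∃ a b : Fin 64, r (lv a) = lv a ∧ r (lv b) = lv b ∧ pol8 m (lv a) (lv b) = true) ∧
    ∀ w : V, w.val < 64 → (∀ v : V, v.val < 64 → r v = v → pol8 m w v = false) →
      ∃ y : V, vadd (r y) y = w := by
  have hp : IsPGroup 2 (Subgroup.zpowers r) := by
    intro x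
    refine ⟨1, Subtype.ext ?_⟩
    obtain ⟨n, hn⟩ := x.2
    have hn' : r ^ n = (x : Equiv.Perm V) := hn
    simp only [Nat.pow_one, Subgroup.coe_pow, Subgroup.coe_one, ← hn']
    rw [pow_two, ← (Commute.refl r).mul_zpow, h2, one_zpow]
  obtain ⟨h, hh, hT⟩ := exists_conj_T S (Subgroup.zpowers_le.mpr hr) hp
  obtain ⟨i, hi⟩ := hT r (Subgroup.mem_zpowers r)
  have hh' : h⁻¹ ∈ oGroup := inv_mem hh
  have hi0 : i ≠ 0 := by
    rintro rfl
    rw [perm_zero] at hi
    exact h1 (by simpa using hi.symm)
  have hsq : ∀ v : Fin 64, low i.val (low i.val v.val) = v.val := by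
    refine low_of_sq ?_
    rw [hi]
    calc h * r * h⁻¹ * (h * r * h⁻¹) = h * (r * r) * h⁻¹ := by group
      _ = 1 := by rw [h2, mul_one, mul_inv_cancel]
  have hfix : ∀ v : V, perm i v = v → r (h⁻¹ v) = h⁻¹ v := by
    intro v hv
    rw [hi] at hv
    have := congrArg (fun u => h⁻¹ u) hv
    simpa [Equiv.Perm.mul_apply] using this
  refine ⟨?_, ?_, ?_⟩
  · have he : (Finset.univ.filter fun v : V => r v = v).card =
        (Finset.univ.filter fun v : V => low i.val (lo v).val = (lo v).val).card := by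
      refine Finset.card_nbij' (fun v => h v) (fun v => h⁻¹ v) ?_ ?_ ?_ ?_
      · intro v hv
        simp only [Finset.coe_filter, Finset.mem_univ, true_and, Set.mem_ofPred_eq] at hv ⊢
        rw [← perm_fix_iff, hi, conj_fix]; exact hv
      · intro v hv
        simp only [Finset.coe_filter, Finset.mem_univ, true_and, Set.mem_ofPred_eq] at hv ⊢
        exact hfix v ((perm_fix_iff i v).mpr hv)
      · intro v _; simp
      · intro v _; simp
    rw [he, card_lift (fun a : Fin 64 => low i.val a.val = a.val)]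
    have := invol_count i hi0 hsq
    rw [count64] at this
    have he2 : (Finset.univ.filter fun a : Fin 64 => low i.val a.val = a.val) =
        Finset.univ.filter fun a : Fin 64 => (fixTab.getD i.val 0).testBit a.val = true :=
      Finset.filter_congr fun a _ => (fix_spec i a).symm
    rw [he2, this]
  · obtain ⟨a, b, -, -, ha, hb, hab⟩ := invol_pair i hi0 hsq
    have la := good_low hh' (v := lv a) a.isLt
    have lb := good_low hh' (v := lv b) b.isLt
    refine ⟨lo (h⁻¹ (lv a)), lo (h⁻¹ (lv b)), ?_, ?_, ?_⟩ <;>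
      simp only [lv_of_lt la, lv_of_lt lb]
    · exact hfix _ ((perm_fix_iff i _).mpr (by rw [lo_lv]; exact ha))
    · exact hfix _ ((perm_fix_iff i _).mpr (by rw [lo_lv]; exact hb))
    · rw [act_pol S hh', pol8_low]; exact hab
  · intro w hw hperp
    have hw' : (h w).val < 64 := good_low hh hw
    obtain ⟨y, hy⟩ := perp_spec i hi0 hsq (lo (h w)) fun k => by
      obtain ⟨hlt, hf⟩ := basis_spec i hi0 hsq k
      have hb : Fin.ofNat 256 (fixBasis.getD (4 * i.val + k.val) 0) =
          lv ⟨fixBasis.getD (4 * i.val + k.val) 0, hlt⟩ :=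
        Fin.ext (Nat.mod_eq_of_lt (by omega))
      rw [hb, ← pol8_low m, lv_of_lt hw', ← act_pol S hh',
        show h⁻¹ (h w) = w from h.symm_apply_apply w]
      exact hperp _ (good_low hh' (v := lv _) hlt)
        (hfix _ ((perm_fix_iff i _).mpr (by rw [lo_lv]; exact hf)))
    refine ⟨h⁻¹ (lv y), h.injective ?_⟩
    rw [act_add S hh, show h (h⁻¹ (lv y)) = lv y from h.apply_symm_apply _,
      show h (r (h⁻¹ (lv y))) = perm i (lv y) from by rw [hi]; rfl]
    apply Fin.ext
    rw [vadd_val, perm_apply, app_lv]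
    have : (lo (h w)).val = (h w).val := Nat.mod_eq_of_lt hw'
    rw [← this]; exact hy

end H18.U6C
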